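import Groth.Prelude.Def_BigSite
import Groth.Agent.BigSiteLib.Compare
import Groth.Agent.EtIntegral.BaseChange
import Groth.Agent.EtShLib.ConnFib
import Groth.Agent.S3464

/-!
Big and small étale sites and direct images of sheaves of sets along proper morphisms.
-/

set_option autoImplicit false
set_option backward.isDefEq.respectTransparency false
set_option backward.isDefEq.respectTransparency.types false
set_option backward.defeqAttrib.useBackward true
set_option linter.style.haveILetI false
set_option maxHeartbeats 1000000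
universe u

noncomputable section

namespace Groth.Agent.BigSetsPBC

open CategoryTheory Limits Opposite AlgebraicGeometry
open Groth.Agent.EtShLib (unitSect)

/-- Inverse image to the big étale site. -/
abbrev piS (S : Scheme.{u}) : EtDesc.Sh S ⥤ Sheaf (QuotSh.J Scheme.etalePrecoverage S) (Type (u + 1)) :=
  (EtFppf.a S).sheafPullback (Type (u + 1)) S.smallEtaleTopology (QuotSh.J Scheme.etalePrecoverage S)

/-- Restriction to the small étale site. -/
abbrev resS (S : Scheme.{u}) : Sheaf (QuotSh.J Scheme.etalePrecoverage S) (Type (u + 1)) ⥤ EtDesc.Sh S :=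
  (EtFppf.a S).sheafPushforwardContinuous (Type (u + 1)) S.smallEtaleTopology (QuotSh.J Scheme.etalePrecoverage S)

/-- The adjunction. -/
abbrev piSAdj (S : Scheme.{u}) : piS S ⊣ resS S :=
  (EtFppf.a S).sheafAdjunctionContinuous (Type (u + 1)) S.smallEtaleTopology (QuotSh.J Scheme.etalePrecoverage S)

theorem isIso_unitS (S : Scheme.{u}) (F : EtDesc.Sh S) : IsIso ((piSAdj S).unit.app F) :=
  BigSiteLib.isIso_unit_sheafPullback S.smallEtaleTopology (QuotSh.J Scheme.etalePrecoverage S) (EtFppf.a S)
    (Type (u + 1)) F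

variable {S T : Scheme.{u}} (f : T ⟶ S)

/-- Base change of small and big sites. -/
def squareS : resS T ⋙ EtDesc.pushSh f ≅
    BigSite.pushBig Scheme.etalePrecoverage f (Type (u + 1)) ⋙ resS S :=
  let e : EtFppf.a S ⋙ Over.pullback f ≅ EtCoh.bc f ⋙ EtFppf.a T :=
    NatIso.ofComponents (fun U => Iso.refl _) (fun {U V} φ => by
      ext : 1
      simp
      rfl)
  NatIso.ofComponents
    (fun F => (fullyFaithfulSheafToPresheaf _ _).preimageIso
      (Functor.isoWhiskerRight (NatIso.op e) F.obj))
    (fun {F G} φ => Sheaf.hom_ext (by ext U x; exact (ConcreteCategory.congr_hom (φ.hom.naturality _) x).symm))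

/-- The restriction of an inverse image along the base. -/
def resPullS (F : EtDesc.Sh S) :
    (resS T).obj ((BigSite.pullBig Scheme.etalePrecoverage f (Type (u + 1))).obj ((piS S).obj F)) ≅
      (EtDesc.pullSh f).obj F :=
  haveI := fun G => isIso_unitS T G
  let e : piS S ⋙ BigSite.pullBig Scheme.etalePrecoverage f (Type (u + 1)) ≅ EtDesc.pullSh f ⋙ piS T :=
    Adjunction.leftAdjointUniq
      (((piSAdj S).comp (BigSite.bigAdj Scheme.etalePrecoverage f (Type (u + 1)))).ofNatIsoRight (squareS f).symm)
      ((EtDesc.adjSh f).comp (piSAdj T))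
  (resS T).mapIso (e.app F) ≪≫ (asIso ((piSAdj T).unit.app ((EtDesc.pullSh f).obj F))).symm

/-- Restriction of sections. -/
abbrev rs (F : EtDesc.Sh S) {U U' : Over S} (g : U' ⟶ U) :
    ((piS S).obj F).obj.obj (op U) → ((piS S).obj F).obj.obj (op U') :=
  fun x => ((piS S).obj F).obj.map g.op x

theorem rs_rs (F : EtDesc.Sh S) {U U' U'' : Over S} (g : U' ⟶ U) (h : U'' ⟶ U')
    (x : ((piS S).obj F).obj.obj (op U)) : rs F h (rs F g x) = rs F (h ≫ g) x := by
  change ((piS S).obj F).obj.map h.op (((piS S).obj F).obj.map g.op x) = ((piS S).obj F).obj.map (h ≫ g).op x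
  rw [op_comp, Functor.map_comp]; rfl

theorem rs_id (F : EtDesc.Sh S) {U : Over S} (x : ((piS S).obj F).obj.obj (op U)) : rs F (𝟙 U) x = x := by
  change ((piS S).obj F).obj.map (𝟙 U).op x = x
  rw [op_id, CategoryTheory.Functor.map_id]; rfl

/-- The canonical section. -/
def etaS (F : EtDesc.Sh S) (V : S.Etale) (σ : EtDesc.sect F V) :
    ((piS S).obj F).obj.obj (op ((EtFppf.a S).obj V)) :=
  ((piSAdj S).unit.app F).hom.app (op V) σ

/-- the counit of the base change of over categories at an etale object -/
abbrev ctr (V : S.Etale) : (Over.map f).obj ((EtFppf.a T).obj ((EtCoh.bc f).obj V)) ⟶ (EtFppf.a S).obj V :=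
  Over.homMk (pullback.fst V.hom f) pullback.condition

theorem resPullS_eta (F : EtDesc.Sh S) (V : S.Etale) (σ : EtDesc.sect F V) :
    (resPullS f F).hom.hom.app (op ((EtCoh.bc f).obj V)) (rs F (ctr f V) (etaS F V σ)) = unitSect f F V σ := by
  haveI := fun G => isIso_unitS T G
  let A₁ := ((piSAdj S).comp
        (BigSite.bigAdj Scheme.etalePrecoverage f (Type (u + 1)))).ofNatIsoRight (squareS f).symm
  let A₂ := (EtDesc.adjSh f).comp (piSAdj T)
  let uT := (piSAdj T).unit.app ((EtDesc.pullSh f).obj F)
  have h := ConcreteCategory.congr_hom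
    (congrArg (fun m : F ⟶ (resS T ⋙ EtDesc.pushSh f).obj _ => m.hom.app (op V))
      (Adjunction.unit_leftAdjointUniq_hom_app A₁ A₂ F)) σ
  have h2 : (resS T).map ((Adjunction.leftAdjointUniq A₁ A₂).hom.app F) ≫ inv uT = (resPullS f F).hom := rfl
  rw [← h2]
  refine (congrArg ((inv uT).hom.app (op ((EtCoh.bc f).obj V))) (Eq.trans ?_ h)).trans ?_
  · change ((Adjunction.leftAdjointUniq A₁ A₂).hom.app F).hom.app (op ((EtFppf.a T).obj ((EtCoh.bc f).obj V))) _ =
      ((Adjunction.leftAdjointUniq A₁ A₂).hom.app F).hom.app (op ((EtFppf.a T).obj ((EtCoh.bc f).obj V))) _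
    refine congrArg _ ?_
    symm
    rw [Adjunction.comp_unit_app]
    simp [squareS, BigSite.bigAdj, rs, etaS]
    refine congrArg (fun m => ConcreteCategory.hom (((piS S).obj F).obj.map (Quiver.Hom.op m)) _)
      ((Over.map f).map_id ((Over.pullback f).obj V.toComma)) |>.trans ?_
    exact ConcreteCategory.congr_hom (((piS S).obj F).obj.map_id _) _
  · change (inv uT).hom.app _ (uT.hom.app _ _) = _
    rw [← ConcreteCategory.comp_apply]
    exact ConcreteCategory.congr_hom
      (congrArg (fun m : (EtDesc.pullSh f).obj F ⟶ _ => m.hom.app (op ((EtCoh.bc f).obj V))) (IsIso.hom_inv_id uT)) _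

variable (G : EtDesc.Sh T)

/-- The comparison map. -/
def theta : (piS S).obj ((EtDesc.pushSh f).obj G) ⟶
    (BigSite.pushBig Scheme.etalePrecoverage f (Type (u + 1))).obj ((piS T).obj G) :=
  ((piSAdj S).homEquiv _ _).symm ((EtDesc.pushSh f).map ((piSAdj T).unit.app G) ≫ (squareS f).hom.app _)

theorem theta_eta (V : S.Etale) (σ : EtDesc.sect ((EtDesc.pushSh f).obj G) V) :
    (theta f G).hom.app (op ((EtFppf.a S).obj V)) (etaS ((EtDesc.pushSh f).obj G) V σ) =
      etaS G ((EtCoh.bc f).obj V) σ := by
  have h : (piSAdj S).unit.app _ ≫ (resS S).map (theta f G) =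
      (EtDesc.pushSh f).map ((piSAdj T).unit.app G) ≫ (squareS f).hom.app _ :=
    ((piSAdj S).homEquiv_unit _ _ (theta f G)).symm.trans (Equiv.apply_symm_apply _ _)
  refine (congrArg (fun q : (EtDesc.pushSh f).obj G ⟶ (resS S).obj _ => q.hom.app (op V) σ) h).trans ?_
  change ((piS T).obj G).obj.map (𝟙 _) (etaS G ((EtCoh.bc f).obj V) σ) = _
  rw [CategoryTheory.Functor.map_id]
  rfl

theorem theta_natural : ∀ {G G' : EtDesc.Sh T} (φ : G ⟶ G'),
    (piS S).map ((EtDesc.pushSh f).map φ) ≫ theta f G' =
      theta f G ≫ (BigSite.pushBig Scheme.etalePrecoverage f (Type (u + 1))).map ((piS T).map φ) := by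
  intro G G' φ
  apply ((piSAdj S).homEquiv _ _).injective
  rw [(piSAdj S).homEquiv_naturality_left, (piSAdj S).homEquiv_naturality_right, theta, theta,
    Equiv.apply_symm_apply, Equiv.apply_symm_apply, ← Functor.map_comp_assoc]
  erw [(piSAdj T).unit.naturality φ]
  rw [Functor.map_comp, Category.assoc, Category.assoc]
  exact congrArg (_ ≫ ·) ((squareS f).hom.naturality ((piS T).map φ))

variable {U P : Scheme.{u}} {g : U ⟶ S} {f' : P ⟶ U} {g' : P ⟶ T} (h : IsPullback g' f' f g)

theorem baseChange0Sh_unit (V : S.Etale) (t : EtDesc.sect ((EtDesc.pushSh f).obj G) V) :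
    (EtBC.baseChange0Sh f g f' g' h.w G).hom.app (op ((EtCoh.bc g).obj V))
        (unitSect g ((EtDesc.pushSh f).obj G) V t) =
      ((EtDesc.pullSh g').obj G).obj.map (EtIntegral.bcSwap f g f' g' h.w V).op
        (unitSect g' G ((EtCoh.bc f).obj V) t) := by
  have h' := ((EtDesc.adjSh g).homEquiv_unit (f := EtBC.baseChange0Sh f g f' g' h.w G)).symm
  rw [EtBC.baseChange0Sh, Equiv.apply_symm_apply] at h'
  refine (ConcreteCategory.congr_hom (congrArg (fun m : (EtDesc.pushSh f).obj G ⟶ (EtDesc.pushSh g).obj
    ((EtDesc.pushSh f').obj ((EtDesc.pullSh g').obj G)) => m.hom.app (op V)) h') t).trans ?_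
  simp only [EtIntegral.bcSwap, op_comp, Functor.map_comp, ConcreteCategory.comp_apply]
  rfl

/-- Exchange of big and small base change at an étale object. -/
def omega (W : U.Etale) : (Over.map g').obj ((EtFppf.a P).obj ((EtCoh.bc f').obj W)) ⟶
    (Over.pullback f).obj ((Over.map g).obj ((EtFppf.a U).obj W)) :=
  Over.homMk (pullback.lift (pullback.fst W.hom f') (pullback.snd W.hom f' ≫ g') (by
      change pullback.fst W.hom f' ≫ W.hom ≫ g = _
      rw [Category.assoc, h.w, pullback.condition_assoc]))
    (pullback.lift_snd _ _ _)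

theorem isIso_omega (W : U.Etale) : IsIso (omega f h W) := by
  have hP : IsPullback (pullback.fst W.hom f') (pullback.snd W.hom f' ≫ g') (W.hom ≫ g) f :=
    ((IsPullback.of_hasPullback W.hom f').flip.paste_horiz h).flip
  haveI : IsIso (omega f h W).left := by
    have e : (omega f h W).left = hP.isoPullback.hom := by
      apply pullback.hom_ext
      · exact (pullback.lift_fst _ _ _).trans hP.isoPullback_hom_fst.symm
      · exact (pullback.lift_snd _ _ _).trans hP.isoPullback_hom_snd.symm
    rw [e]; infer_instance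
  haveI : IsIso ((Over.forget T).map (omega f h W)) := this
  exact isIso_of_reflects_iso _ (Over.forget T)

/-- The comparison map seen on the small site of an object. -/
def thetaAt : (resS U).obj ((BigSite.pullBig Scheme.etalePrecoverage g (Type (u + 1))).obj
      ((piS S).obj ((EtDesc.pushSh f).obj G))) ⟶
    (EtDesc.pushSh f').obj ((resS P).obj ((BigSite.pullBig Scheme.etalePrecoverage g' (Type (u + 1))).obj
      ((piS T).obj G))) :=
  ⟨{ app := fun W => (theta f G).hom.app (op ((Over.map g).obj ((EtFppf.a U).obj W.unop))) ≫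
        ((piS T).obj G).obj.map (omega f h W.unop).op
     naturality := fun W W' r => by
      have e : (Over.map g').map ((EtFppf.a P).map ((EtCoh.bc f').map r.unop)) ≫ omega f h W.unop =
          omega f h W'.unop ≫ (Over.pullback f).map ((Over.map g).map ((EtFppf.a U).map r.unop)) := by
        refine Over.OverMorphism.ext ?_
        apply pullback.hom_ext <;> simp [omega, EtCoh.bc]
      ext x
      refine Eq.trans ?_ (rs_rs G (omega f h W.unop) _ _).symm
      refine (congrArg (rs G (omega f h W'.unop))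
        (NatTrans.naturality_apply (theta f G).hom ((Over.map g).map ((EtFppf.a U).map r.unop)).op x)).trans ?_
      refine (rs_rs G _ _ _).trans ?_
      exact congrArg (fun m => rs G m _) e.symm }⟩

theorem theta_eq_baseChange :
    (resPullS g ((EtDesc.pushSh f).obj G)).inv ≫ thetaAt f G h ≫ (EtDesc.pushSh f').map (resPullS g' G).hom =
      EtBC.baseChange0Sh f g f' g' h.w G := by
  apply ((EtDesc.adjSh g).homEquiv _ _).injective
  rw [(EtDesc.adjSh g).homEquiv_unit, (EtDesc.adjSh g).homEquiv_unit]
  apply Sheaf.hom_ext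
  ext ⟨V⟩ t
  refine Eq.trans ?_ (baseChange0Sh_unit f G h V t).symm
  have h1 : (resPullS g ((EtDesc.pushSh f).obj G)).inv.hom.app (op ((EtCoh.bc g).obj V))
      (unitSect g ((EtDesc.pushSh f).obj G) V t) = rs _ (ctr g V) (etaS ((EtDesc.pushSh f).obj G) V t) := by
    rw [← resPullS_eta g]
    exact ConcreteCategory.congr_hom (congrArg (fun m : (resS U).obj ((BigSite.pullBig Scheme.etalePrecoverage g
      (Type (u + 1))).obj ((piS S).obj ((EtDesc.pushSh f).obj G))) ⟶ _ => m.hom.app (op ((EtCoh.bc g).obj V)))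
      (resPullS g ((EtDesc.pushSh f).obj G)).hom_inv_id) _
  refine Eq.trans (b := (resPullS g' G).hom.hom.app (op ((EtCoh.bc f').obj ((EtCoh.bc g).obj V)))
    ((thetaAt f G h).hom.app (op ((EtCoh.bc g).obj V))
      ((resPullS g ((EtDesc.pushSh f).obj G)).inv.hom.app (op ((EtCoh.bc g).obj V))
        (unitSect g ((EtDesc.pushSh f).obj G) V t)))) rfl ?_
  rw [h1]
  refine Eq.trans (b := (resPullS g' G).hom.hom.app (op ((EtCoh.bc f').obj ((EtCoh.bc g).obj V)))
    (rs G (omega f h ((EtCoh.bc g).obj V))
      ((theta f G).hom.app (op ((Over.map g).obj ((EtFppf.a U).obj ((EtCoh.bc g).obj V))))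
        (rs ((EtDesc.pushSh f).obj G) (ctr g V) (etaS ((EtDesc.pushSh f).obj G) V t))))) rfl ?_
  have h2 : (theta f G).hom.app (op ((Over.map g).obj ((EtFppf.a U).obj ((EtCoh.bc g).obj V))))
      (rs _ (ctr g V) (etaS ((EtDesc.pushSh f).obj G) V t)) =
      rs G ((Over.pullback f).map (ctr g V)) (etaS G ((EtCoh.bc f).obj V) t) :=
    (NatTrans.naturality_apply (theta f G).hom (ctr g V).op _).trans
      (congrArg (rs G ((Over.pullback f).map (ctr g V))) (theta_eta f G V t))
  rw [h2, rs_rs]
  let b := EtIntegral.bcSwap f g f' g' h.w V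
  have e : omega f h ((EtCoh.bc g).obj V) ≫ (Over.pullback f).map (ctr g V) =
      (Over.map g').map ((EtFppf.a P).map b) ≫ ctr g' ((EtCoh.bc f).obj V) := by
    refine Over.OverMorphism.ext ?_
    apply pullback.hom_ext
    · simp only [Over.comp_left, Category.assoc]
      refine Eq.trans ?_ (EtIntegral.bcSwap_fst f g f' g' h.w V).symm
      simp [omega]
      rfl
    · simp only [Over.comp_left, Category.assoc]
      refine Eq.trans ?_ (congrArg (b.left ≫ ·) pullback.condition).symm
      rw [← Category.assoc b.left]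
      erw [MorphismProperty.Over.w b]
      simp [omega]
      rfl
  rw [e, ← rs_rs]
  have hn := ConcreteCategory.congr_hom ((resPullS g' G).hom.hom.naturality b.op)
    (rs G (ctr g' ((EtCoh.bc f).obj V)) (etaS G ((EtCoh.bc f).obj V) t))
  rw [← resPullS_eta g' G ((EtCoh.bc f).obj V) t]
  exact hn

/-- The comparison map is an isomorphism for proper morphisms. -/
theorem isIso_theta [IsProper f] : IsIso (theta f G) := by
  haveI : IsIso ((sheafToPresheaf _ _).map (theta f G)) := by
    haveI : ∀ X, IsIso (((sheafToPresheaf _ _).map (theta f G)).app X) := by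
      rintro ⟨X⟩
      let h := (IsPullback.of_hasPullback X.hom f).flip
      haveI := Groth.Agent.S3464.result f X.hom _ _ h G
      haveI : IsIso (thetaAt f G h ≫ (EtDesc.pushSh (pullback.fst X.hom f)).map
          (resPullS (pullback.snd X.hom f) G).hom) :=
        IsIso.of_isIso_fac_left (theta_eq_baseChange f G h)
      haveI : IsIso (thetaAt f G h) := IsIso.of_isIso_comp_right _
        ((EtDesc.pushSh (pullback.fst X.hom f)).map (resPullS (pullback.snd X.hom f) G).hom)
      let Y := (Over.map X.hom).obj ((EtFppf.a X.left).obj (EtCoh.top X.left))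
      haveI := isIso_omega f h (EtCoh.top X.left)
      haveI : IsIso (((piS T).obj G).obj.map (omega f h (EtCoh.top X.left)).op) := inferInstance
      haveI : IsIso ((theta f G).hom.app (op Y) ≫ ((piS T).obj G).obj.map (omega f h (EtCoh.top X.left)).op) :=
        inferInstanceAs (IsIso (((sheafToPresheaf _ _).map (thetaAt f G h)).app (op (EtCoh.top X.left))))
      haveI hY : IsIso ((theta f G).hom.app (op Y)) :=
        IsIso.of_isIso_comp_right _ (((piS T).obj G).obj.map (omega f h (EtCoh.top X.left)).op)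
      let k : Y ≅ X := Over.isoMk (Iso.refl _) (by change 𝟙 _ ≫ X.hom = 𝟙 _ ≫ X.hom; rfl)
      exact (NatTrans.isIso_app_iff_of_iso (theta f G).hom k.op).2 hY
    exact NatIso.isIso_of_isIso_app _
  exact isIso_of_reflects_iso (theta f G) (sheafToPresheaf _ _)

end Groth.Agent.BigSetsPBC
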